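import Mathlib.AlgebraicGeometry.Limits
import Mathlib.AlgebraicGeometry.OpenImmersion
import Mathlib.AlgebraicGeometry.PullbackCarrier
import Mathlib.AlgebraicGeometry.FunctionField
import Mathlib.Algebra.MonoidAlgebra.NoZeroDivisors
import Mathlib.Algebra.MonoidAlgebra.Lift
import Mathlib.Algebra.MonoidAlgebra.MapDomain

/-!
# Units on products with split tori
-/

open CategoryTheory CategoryTheory.Limits AlgebraicGeometry Opposite

namespace Groth.Agent.Lib.TorusUnits.Basic

universe u

/-- Units of a group algebra of a torsion free group over a domain are monomials. -/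
theorem exists_eq_single_of_isUnit {A : Type u} [CommRing A] [IsDomain A] {G : Type*} [AddCommGroup G]
    [TwoUniqueSums G] {f : AddMonoidAlgebra A G} (hf : IsUnit f) : ∃ e c, f = AddMonoidAlgebra.single e c := by
  classical
  obtain ⟨g, hg⟩ := hf.exists_right_inv
  have hcard : f.coeff.support.card * g.coeff.support.card ≤ 1 := by
    by_contra h
    obtain ⟨⟨a, b⟩, hab, ⟨a', b'⟩, hab', hne, h1, h2⟩ := TwoUniqueSums.uniqueAdd_of_one_lt_card (Nat.lt_of_not_le h)
    rw [Finset.mem_product, Finsupp.mem_support_iff, Finsupp.mem_support_iff] at hab hab'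
    have key : ∀ x y, f.coeff x ≠ 0 → g.coeff y ≠ 0 → UniqueAdd f.coeff.support g.coeff.support x y → x + y = 0 := by
      intro x y hx hy hu
      by_contra hxy
      have h := AddMonoidAlgebra.coeff_mul_add_of_uniqueAdd hu
      rw [hg, AddMonoidAlgebra.one_def, AddMonoidAlgebra.coeff_single, Finsupp.single_eq_of_ne hxy] at h
      exact mul_ne_zero hx hy h.symm
    have hs := key a b hab.1 hab.2 h1
    have hs' := key a' b' hab'.1 hab'.2 h2
    have := h1 (Finsupp.mem_support_iff.mpr hab'.1) (Finsupp.mem_support_iff.mpr hab'.2) (hs'.trans hs.symm)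
    exact hne (Prod.ext this.1.symm this.2.symm)
  have hf0 : f ≠ 0 := fun h => by rw [h, zero_mul] at hg; exact zero_ne_one hg
  have hg0 : g ≠ 0 := fun h => by rw [h, mul_zero] at hg; exact zero_ne_one hg
  have h1 : 0 < g.coeff.support.card := Finset.card_pos.mpr (Finsupp.support_nonempty_iff.mpr (by simpa using hg0))
  have h2 : 0 < f.coeff.support.card := Finset.card_pos.mpr (Finsupp.support_nonempty_iff.mpr (by simpa using hf0))
  obtain ⟨e, c, hec⟩ := Finsupp.card_support_eq_one'.mp (show f.coeff.support.card = 1 by nlinarith)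
  exact ⟨e, c, AddMonoidAlgebra.coeff_injective (by rw [AddMonoidAlgebra.coeff_single]; exact hec.2)⟩

section Gam

/-- The ring map of a morphism to an affine scheme. -/
noncomputable def gam {R : CommRingCat.{u}} {Z : Scheme.{u}} (f : Z ⟶ Spec R) : R ⟶ Γ(Z, ⊤) :=
  (Scheme.ΓSpecIso R).inv ≫ f.appTop

theorem gam_comp {R : CommRingCat.{u}} {Y Z : Scheme.{u}} (f : Y ⟶ Z) (g : Z ⟶ Spec R) :
    gam (f ≫ g) = gam g ≫ f.appTop := by simp [gam]

theorem gam_SpecMap {R S : CommRingCat.{u}} (φ : R ⟶ S) : gam (Spec.map φ) = φ ≫ (Scheme.ΓSpecIso S).inv := by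
  rw [gam, Scheme.ΓSpecIso_inv_naturality]

theorem gam_injective {R : CommRingCat.{u}} {Z : Scheme.{u}} {f g : Z ⟶ Spec R} (h : gam f = gam g) : f = g :=
  ext_of_isAffine ((cancel_epi (Scheme.ΓSpecIso R).inv).mp h)

theorem gam_toSpec {R : CommRingCat.{u}} {Z : Scheme.{u}} (ψ : R ⟶ Γ(Z, ⊤)) : gam (Z.toSpecΓ ≫ Spec.map ψ) = ψ := by
  rw [gam_comp, gam_SpecMap, Scheme.toSpecΓ_appTop, Category.assoc]
  simp

theorem gam_comp_SpecMap {R S : CommRingCat.{u}} {Z : Scheme.{u}} (f : Z ⟶ Spec S) (φ : R ⟶ S) :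
    gam (f ≫ Spec.map φ) = φ ≫ gam f := by
  rw [gam_comp, gam_SpecMap, Category.assoc]
  rfl

end Gam

variable {G : Type} [AddCommGroup G]

/-- The coordinate ring of the torus. -/
noncomputable abbrev TR (G : Type) [AddCommGroup G] : CommRingCat.{u} := CommRingCat.of (ULift.{u} (AddMonoidAlgebra ℤ G))

/-- `A[G]`. -/
noncomputable abbrev AR (A : CommRingCat.{u}) (G : Type) [AddCommGroup G] : CommRingCat.{u} := CommRingCat.of (AddMonoidAlgebra A G)

/-- The constants. -/
noncomputable def con (A : CommRingCat.{u}) : A ⟶ AR A G := CommRingCat.ofHom AddMonoidAlgebra.singleZeroRingHom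

/-- The characters. -/
noncomputable def chr (A : CommRingCat.{u}) : TR G ⟶ AR A G :=
  CommRingCat.ofHom ((AddMonoidAlgebra.mapRingHom G (Int.castRingHom A)).comp
    (ULift.ringEquiv : ULift.{u} (AddMonoidAlgebra ℤ G) ≃+* AddMonoidAlgebra ℤ G).toRingHom)

theorem chr_single (A : CommRingCat.{u}) (e : G) :
    chr A (ULift.up (AddMonoidAlgebra.single e 1)) = (AddMonoidAlgebra.single e 1 : AddMonoidAlgebra A G) := by
  show AddMonoidAlgebra.mapRingHom G (Int.castRingHom A) (AddMonoidAlgebra.single e 1) = _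
  simp

/-- Ring maps out of the coordinate ring of the torus are determined on the characters. -/
theorem hom_ext_TR {R : CommRingCat.{u}} {f g : TR G ⟶ R}
    (h : ∀ e : G, f (ULift.up (AddMonoidAlgebra.single e 1)) = g (ULift.up (AddMonoidAlgebra.single e 1))) : f = g := by
  apply CommRingCat.hom_ext
  have : f.hom.comp (ULift.ringEquiv : ULift.{u} (AddMonoidAlgebra ℤ G) ≃+* _).symm.toRingHom =
      g.hom.comp (ULift.ringEquiv : ULift.{u} (AddMonoidAlgebra ℤ G) ≃+* _).symm.toRingHom :=
    AddMonoidAlgebra.ringHom_ext (fun c => RingHom.congr_fun (RingHom.ext_int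
      ((f.hom.comp (ULift.ringEquiv : ULift.{u} (AddMonoidAlgebra ℤ G) ≃+* _).symm.toRingHom).comp AddMonoidAlgebra.singleZeroRingHom)
      ((g.hom.comp (ULift.ringEquiv : ULift.{u} (AddMonoidAlgebra ℤ G) ≃+* _).symm.toRingHom).comp AddMonoidAlgebra.singleZeroRingHom)) c) h
  exact RingHom.ext fun p => RingHom.congr_fun this p.down

theorem up_single_zero : (ULift.up (AddMonoidAlgebra.single 0 1) : TR G) = 1 := rfl

variable (X : Scheme.{u})

local notation "T" => Spec (TR G)

/-- The product. -/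
noncomputable abbrev P (G : Type) [AddCommGroup G] : Scheme.{u} := X ⨯ Spec (TR G)

variable {X} {A : CommRingCat.{u}} (j : Spec A ⟶ X)

/-- The chart over an affine scheme mapping to `X`. -/
noncomputable def sec : Spec (AR A G) ⟶ P X G :=
  prod.lift (Spec.map (con A) ≫ j) (Spec.map (chr A))

theorem sec_fst : sec (G := G) j ≫ prod.fst = Spec.map (con A) ≫ j := prod.lift_fst _ _
theorem sec_snd : sec (G := G) j ≫ prod.snd = Spec.map (chr A) := prod.lift_snd _ _

theorem isPullback_sec : IsPullback (sec (G := G) j) (Spec.map (con A)) prod.fst j := by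
  refine ⟨⟨sec_fst j⟩, ⟨PullbackCone.IsLimit.mk _ (fun s => ?_) (fun s => ?_) (fun s => ?_) (fun s l hl₁ hl₂ => ?_)⟩⟩
  · exact s.pt.toSpecΓ ≫ Spec.map (CommRingCat.ofHom (AddMonoidAlgebra.liftNCRingHom (gam s.snd).hom
      ((gam (s.fst ≫ prod.snd)).hom.toMonoidHom.comp
        { toFun := fun e => ULift.up (AddMonoidAlgebra.single e.toAdd 1)
          map_one' := rfl
          map_mul' := fun e e' => by
            apply ULift.ext
            show AddMonoidAlgebra.single (e.toAdd + e'.toAdd) (1 : ℤ) = _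
            rw [ULift.mul_down, AddMonoidAlgebra.single_mul_single, one_mul] })
      (fun x y => Commute.all _ _)))
  · apply prod.hom_ext
    · rw [Category.assoc, sec_fst, s.condition, ← Category.assoc]
      congr 1
      apply gam_injective
      rw [gam_comp_SpecMap, gam_toSpec]
      apply CommRingCat.hom_ext; ext a
      simp [con, up_single_zero]
    · rw [Category.assoc, sec_snd]
      apply gam_injective
      rw [gam_comp_SpecMap, gam_toSpec]
      refine hom_ext_TR fun e => ?_
      rw [CommRingCat.comp_apply, chr_single]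
      simp
  · apply gam_injective
    rw [gam_comp_SpecMap, gam_toSpec]
    apply CommRingCat.hom_ext; ext a
    simp [con, up_single_zero]
  · apply gam_injective
    rw [gam_toSpec]
    apply CommRingCat.hom_ext
    refine AddMonoidAlgebra.ringHom_ext (fun a => ?_) (fun e => ?_)
    · rw [← hl₂, gam_comp_SpecMap]
      simp [con, up_single_zero]
    · rw [← hl₁, Category.assoc, sec_snd, gam_comp_SpecMap]
      simp
      exact congrArg (gam l).hom (chr_single A e).symm

/-- The value of a global function on the chart. -/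
noncomputable def val : Γ(P X G, ⊤) ⟶ AR A G := (sec (G := G) j).appTop ≫ (Scheme.ΓSpecIso (AR A G)).hom

theorem val_snd (e : G) :
    val j ((prod.snd : P X G ⟶ T).appTop ((Scheme.ΓSpecIso (TR G)).inv (ULift.up (AddMonoidAlgebra.single e 1)))) =
      (AddMonoidAlgebra.single e 1 : AddMonoidAlgebra A G) := by
  have h : gam (sec (G := G) j ≫ prod.snd) = chr A ≫ (Scheme.ΓSpecIso _).inv := by rw [sec_snd, gam_SpecMap]
  rw [gam_comp] at h
  have h2 := congrArg (fun q => q ≫ (Scheme.ΓSpecIso (AR A G)).hom) h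
  simp only [gam, Category.assoc, Iso.inv_hom_id, Category.comp_id] at h2
  have := congrArg (fun q => q (ULift.up (AddMonoidAlgebra.single e 1))) h2
  rw [chr_single] at this
  exact this

theorem val_fst (x : Γ(X, ⊤)) :
    val (G := G) j ((prod.fst : P X G ⟶ X).appTop x) =
      (AddMonoidAlgebra.single 0 ((Scheme.ΓSpecIso A).hom (j.appTop x)) : AddMonoidAlgebra A G) := by
  have h : (prod.fst : P X G ⟶ X).appTop ≫ val j = j.appTop ≫ (Scheme.ΓSpecIso A).hom ≫ con A := by
    rw [val, ← Category.assoc, ← Scheme.Hom.comp_appTop, sec_fst, Scheme.Hom.comp_appTop, Category.assoc]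
    simp
  exact congrArg (fun q => q x) h

/-- The unit section. -/
noncomputable def one {G : Type} [AddCommGroup G] : X ⟶ P X G :=
  prod.lift (𝟙 X) (X.toSpecΓ ≫ Spec.map (CommRingCat.ofHom ((algebraMap ℤ Γ(X, ⊤)).comp
    ((AddMonoidAlgebra.lift ℤ ℤ G 1).toRingHom.comp
      (ULift.ringEquiv : ULift.{u} (AddMonoidAlgebra ℤ G) ≃+* AddMonoidAlgebra ℤ G).toRingHom))))

/-- The augmentation. -/
noncomputable def aug (A : CommRingCat.{u}) : AR A G ⟶ A :=
  CommRingCat.ofHom (AddMonoidAlgebra.lift A A G 1).toRingHom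

theorem aug_single (e : G) (a : A) : aug A (AddMonoidAlgebra.single e a : AddMonoidAlgebra A G) = a := by
  simp [aug]

theorem sec_aug : Spec.map (aug A) ≫ sec (G := G) j = j ≫ one (G := G) := by
  apply prod.hom_ext
  · have h : con (G := G) A ≫ aug A = 𝟙 A := by ext a; exact aug_single (G := G) 0 a
    rw [Category.assoc, sec_fst, ← Category.assoc, ← Spec.map_comp, h, Spec.map_id, Category.id_comp,
      Category.assoc]
    unfold one
    rw [prod.lift_fst, Category.comp_id]
  · unfold one
    rw [Category.assoc, sec_snd, Category.assoc, prod.lift_snd]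
    apply gam_injective
    rw [← Spec.map_comp, gam_SpecMap, gam_comp, gam_toSpec]
    refine hom_ext_TR fun e => ?_
    show (Scheme.ΓSpecIso A).inv (aug A (chr A (ULift.up (AddMonoidAlgebra.single e 1)))) =
      j.appTop (algebraMap ℤ Γ(X, ⊤) ((AddMonoidAlgebra.lift ℤ ℤ G 1) (AddMonoidAlgebra.single e 1)))
    rw [chr_single, aug_single]
    simp

theorem aug_val (x : Γ(P X G, ⊤)) : aug A (val j x) = (Scheme.ΓSpecIso A).hom (j.appTop ((one (G := G)).appTop x)) := by
  have h : val (G := G) j ≫ aug A = (one (G := G)).appTop ≫ j.appTop ≫ (Scheme.ΓSpecIso A).hom := by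
    rw [val, Category.assoc, ← Scheme.ΓSpecIso_naturality, ← Category.assoc, ← Scheme.Hom.comp_appTop, sec_aug,
      Scheme.Hom.comp_appTop, Category.assoc]
  exact congrArg (fun q => q x) h

theorem val_comp {B : CommRingCat.{u}} (φ : A ⟶ B) (x : Γ(P X G, ⊤)) :
    val (Spec.map φ ≫ j) x = AddMonoidAlgebra.mapRingHom G φ.hom (val j x) := by
  let ψ : AR A G ⟶ AR B G := CommRingCat.ofHom (AddMonoidAlgebra.mapRingHom G φ.hom)
  have h1 : con A ≫ ψ = φ ≫ con (G := G) B := by ext a; simp [con, ψ]
  have h2 : chr A ≫ ψ = chr (G := G) B := hom_ext_TR fun e => by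
    rw [CommRingCat.comp_apply, chr_single, chr_single]
    simp [ψ]
  have hs : sec (G := G) (Spec.map φ ≫ j) = Spec.map ψ ≫ sec j := by
    apply prod.hom_ext
    · rw [sec_fst, Category.assoc, sec_fst, ← Category.assoc, ← Category.assoc, ← Spec.map_comp, ← Spec.map_comp, h1]
    · rw [sec_snd, Category.assoc, sec_snd, ← Spec.map_comp, h2]
  have h : val (Spec.map φ ≫ j) = val j ≫ ψ := by
    rw [val, val, hs, Scheme.Hom.comp_appTop, Category.assoc, Scheme.ΓSpecIso_naturality, ← Category.assoc]
  exact congrArg (fun q => q x) h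

theorem eq_of_val_eq {v w : Γ(P X G, ⊤)}
    (h : ∀ (A : CommRingCat.{u}) (j : Spec A ⟶ X), IsOpenImmersion j → val j v = val j w) : v = w := by
  refine TopCat.Presheaf.section_ext (P X G).sheaf ⊤ v w fun p _ => ?_
  obtain ⟨U, hU, hpU, -⟩ := exists_isAffineOpen_mem_and_subset (X := X) (U := ⊤) (x := (prod.fst : P X G ⟶ X).base p) (by trivial)
  have hpb := isPullback_sec (G := G) hU.fromSpec
  have : IsOpenImmersion (sec (G := G) hU.fromSpec) :=
    MorphismProperty.of_isPullback (P := @IsOpenImmersion) hpb.flip inferInstance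
  have hrange : p ∈ Set.range (sec (G := G) hU.fromSpec) := by
    obtain ⟨q, hq⟩ : (prod.fst : P X G ⟶ X) p ∈ Set.range hU.fromSpec := by rw [hU.range_fromSpec]; exact hpU
    obtain ⟨z, hz, -⟩ := Scheme.Pullback.exists_preimage_pullback p q hq.symm
    exact ⟨hpb.isoPullback.inv z, by rw [← Scheme.Hom.comp_apply, hpb.isoPullback_inv_fst]; exact hz⟩
  obtain ⟨q, rfl⟩ := hrange
  have h' : (sec (G := G) hU.fromSpec).appTop v = (sec (G := G) hU.fromSpec).appTop w :=
    (Scheme.ΓSpecIso _).commRingCatIsoToRingEquiv.injective (h _ hU.fromSpec inferInstance)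
  apply (asIso ((sec (G := G) hU.fromSpec).stalkMap q)).commRingCatIsoToRingEquiv.injective
  show (sec (G := G) hU.fromSpec).stalkMap q _ = (sec (G := G) hU.fromSpec).stalkMap q _
  erw [Scheme.Hom.germ_stalkMap_apply, Scheme.Hom.germ_stalkMap_apply]
  exact congrArg _ h'

theorem exists_unique_decomposition [IsIntegral X] [TwoUniqueSums G] (v : Γ(P X G, ⊤)) (hv : IsUnit v) :
    ∃! p : (Γ(X, ⊤))ˣ × G, v = (prod.fst : P X G ⟶ X).appTop (p.1 : Γ(X, ⊤)) *
      (prod.snd : P X G ⟶ T).appTop ((Scheme.ΓSpecIso (TR G)).inv (ULift.up (AddMonoidAlgebra.single p.2 1))) := by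
  classical
  have hmon : ∀ {A : CommRingCat.{u}} [IsDomain A] (j : Spec A ⟶ X), ∃ e c, c ≠ 0 ∧
      val j v = (AddMonoidAlgebra.single e c : AddMonoidAlgebra A G) := fun {A} _ j => by
    have hu := hv.map (val (G := G) j).hom
    obtain ⟨e, c, hec⟩ := exists_eq_single_of_isUnit hu
    refine ⟨e, c, fun hc => hu.ne_zero ?_, hec⟩
    rw [hec, hc, AddMonoidAlgebra.single_zero]
  obtain ⟨U₀, hU₀, hne₀, -⟩ := exists_isAffineOpen_mem_and_subset (U := ⊤) (trivial : (genericPoint X) ∈ (⊤ : X.Opens))
  have hdom : ∀ (A : CommRingCat.{u}) (j : Spec A ⟶ X), IsOpenImmersion j → Nonempty (Spec A) → IsDomain A :=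
    fun A j _ _ => by
      have := isIntegral_of_isOpenImmersion j
      exact (affine_isIntegral_iff A).mp this
  have : Nonempty U₀ := ⟨⟨_, hne₀⟩⟩
  have : Nonempty (Spec Γ(X, U₀)) := ⟨hU₀.primeIdealOf ⟨_, hne₀⟩⟩
  have := hdom _ hU₀.fromSpec inferInstance this
  obtain ⟨e, c₀, -, he⟩ := hmon hU₀.fromSpec
  let t : Γ(P X G, ⊤) :=
    (prod.snd : P X G ⟶ T).appTop ((Scheme.ΓSpecIso (TR G)).inv (ULift.up (AddMonoidAlgebra.single e 1)))
  let t' : Γ(P X G, ⊤) :=
    (prod.snd : P X G ⟶ T).appTop ((Scheme.ΓSpecIso (TR G)).inv (ULift.up (AddMonoidAlgebra.single (-e) 1)))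
  have htt : t * t' = 1 := by
    rw [← map_mul, ← map_mul, show (ULift.up (AddMonoidAlgebra.single e 1) * ULift.up (AddMonoidAlgebra.single (-e) 1) : TR G) = 1 by
      apply ULift.ext
      rw [ULift.mul_down, AddMonoidAlgebra.single_mul_single, add_neg_cancel, one_mul]; rfl, map_one, map_one]
  have hu : IsUnit ((one (X := X) (G := G)).appTop (v * t')) :=
    (hv.mul (IsUnit.of_mul_eq_one_right _ htt)).map _
  have heq : v = (prod.fst : P X G ⟶ X).appTop ((one (X := X) (G := G)).appTop (v * t')) * t := by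
    refine eq_of_val_eq fun A j hj => ?_
    by_cases hne : Nonempty (Spec A)
    · have := hdom A j hj hne
      obtain ⟨e', c, hc, hjv⟩ := hmon j
      have hee : e' = e := by
        obtain ⟨x₁⟩ := hne
        have hηA : genericPoint X ∈ Set.range j :=
          ((genericPoint_spec X).mem_open_set_iff j.opensRange.isOpen).mpr ⟨j x₁, trivial, x₁, rfl⟩
        obtain ⟨W, hW, hηW, hWsub⟩ := exists_isAffineOpen_mem_and_subset
          (U := j.opensRange ⊓ U₀) (x := genericPoint X) ⟨hηA, hne₀⟩
        have hW1 : Set.range hW.fromSpec ⊆ Set.range j := by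
          rw [hW.range_fromSpec]; exact fun z hz => (hWsub hz).1
        have hW2 : Set.range hW.fromSpec ⊆ Set.range hU₀.fromSpec := by
          rw [hW.range_fromSpec, hU₀.range_fromSpec]; exact fun z hz => (hWsub hz).2
        have hWne : Nonempty (Spec Γ(X, W)) := ⟨hW.primeIdealOf ⟨_, hηW⟩⟩
        have hWdom := hdom _ hW.fromSpec inferInstance hWne
        obtain ⟨φ, hφ⟩ := Spec.map_surjective (IsOpenImmersion.lift j hW.fromSpec hW1)
        obtain ⟨φ₀, hφ₀⟩ := Spec.map_surjective (IsOpenImmersion.lift hU₀.fromSpec hW.fromSpec hW2)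
        have e1 : Spec.map φ ≫ j = hW.fromSpec := by rw [hφ, IsOpenImmersion.lift_fac]
        have e2 : Spec.map φ₀ ≫ hU₀.fromSpec = hW.fromSpec := by rw [hφ₀, IsOpenImmersion.lift_fac]
        obtain ⟨eW, cW, hcW, hWv⟩ := hmon hW.fromSpec
        have h1 := val_comp (G := G) j φ v
        rw [e1, hWv, hjv] at h1
        have h2 := val_comp (G := G) hU₀.fromSpec φ₀ v
        rw [e2, hWv, he] at h2
        rw [AddMonoidAlgebra.mapRingHom_single] at h1 h2
        have key : ∀ {e₁ : G} {d : Γ(X, W)}, (AddMonoidAlgebra.single eW cW : AddMonoidAlgebra Γ(X, W) G) =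
            AddMonoidAlgebra.single e₁ d → eW = e₁ := fun {e₁ d} h => by
          have := congrArg (fun q => q.coeff eW) h
          by_contra hne
          simp [Finsupp.single_eq_of_ne hne] at this
          exact hcW this
        exact (key h1).symm.trans (key h2)
      subst hee
      rw [map_mul, val_fst, val_snd, ← aug_val, map_mul, hjv, val_snd]
      simp only [AddMonoidAlgebra.single_mul_single, zero_add, mul_one]
      erw [aug_single]
    · have : Subsingleton A := by
        rw [← not_nontrivial_iff_subsingleton]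
        intro hA
        exact hne (PrimeSpectrum.instNonemptyOfNontrivial (R := A))
      exact AddMonoidAlgebra.coeff_injective (Finsupp.ext fun _ => Subsingleton.elim _ _)
  refine ⟨⟨hu.unit, e⟩, heq, ?_⟩
  rintro ⟨u', e'⟩ huv
  have h := congrArg (val hU₀.fromSpec) huv
  rw [he, map_mul, val_fst, val_snd, AddMonoidAlgebra.single_mul_single, zero_add, mul_one] at h
  have hc' : (Scheme.ΓSpecIso Γ(X, U₀)).hom (hU₀.fromSpec.appTop (u' : Γ(X, ⊤))) ≠ 0 :=
    ((u'.isUnit.map _).map _).ne_zero
  have hee : e' = e := by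
    by_contra hne
    have := congrArg (fun q => q.coeff e') h
    simp [Finsupp.single_eq_of_ne hne] at this
    exact hc' this.symm
  subst hee
  refine Prod.ext (Units.ext ?_) rfl
  have h' := congrArg (one (X := X) (G := G)).appTop huv
  show (u' : Γ(X, ⊤)) = (one (X := X) (G := G)).appTop (v * t')
  rw [map_mul, h', map_mul]
  have h1 : (one (X := X) (G := G)).appTop ((prod.fst : P X G ⟶ X).appTop (u' : Γ(X, ⊤))) = (u' : Γ(X, ⊤)) := by
    rw [← CommRingCat.comp_apply, ← Scheme.Hom.comp_appTop, one, prod.lift_fst]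
    simp
  rw [h1, mul_assoc, ← map_mul]
  show _ = _ * (one (X := X) (G := G)).appTop (t * t')
  rw [htt, map_one, mul_one]

end Groth.Agent.Lib.TorusUnits.Basic
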